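import Cfsg.Agent.Lib.Trans3.Spider.Data.E.Data

set_option autoImplicit false
set_option maxRecDepth 100000

namespace CfsgLib.Trans3.Spider.E

open CfsgLib.InvChar.Coset

/-- collapse data -/
noncomputable def pa0 : Tr := (.leaf 0xb0001b0001a0001b0001b0000b0001b0001b000020001b0000300002000020001b000020000200003000010000200002000020000100002000010000100002000010000100001000010000100000000010000100001)
/-- collapse data -/
noncomputable def pb0 : Tr := (.leaf 0x230001f0000a00021000100000900018000170000f00011000080000e00014000120001500019000070000d0001e00016000130000c000060001d000200001a000050001c000220000b00004000020001b0000300002)
/-- collapse data -/
noncomputable def pq0 : Tr := (.leaf 0x1f10000078000001d0000006c00000196000006100000174000005580000136000004d000001250000041400000e60000039000000c60000031400000c1000002d400000b0000002580000095000002140000080000001d000000550000014000000440000010c0000025000000500000012000000180000004000000040000000)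
/-- collapse data -/
noncomputable def tm0 : Tr := (.leaf 0x22000060001f0000a00021000100000b000070000200009000130001c0001b0000f00014000160000e00015000190001e0001a00017000110000d00005000200001d00018000120000c000080000400001000030000000000)
/-- collapse data -/
noncomputable def rk0 : Tr := (.leaf 0x40000300004000030000400002000030000300003000020000200004000040000200002000020000200004000040000400002000020000300003000030000300004000040000400002000030000300003000010000200000)
/-- a collapse -/
noncomputable def root0 : Collapse := ⟨1, 0, 35, pa0, pb0, pq0, tm0, rk0⟩
/-- forest -/
noncomputable def forest : Tr := (.leaf 0xc10000350000b00000450000a00000600000540000430000240000400000650000840000a4000082000071000095000055000064000074000094000085000075000065000055000034000090000084000075000061000050000044000032000021000010000000000000)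
/-- classification of the points -/
noncomputable def fixed : Fixed := ⟨[0], [3, 2, 1, 0, 4, 5], forest, [root0]⟩

theorem fixed_ok : fixed.check table = true := by decide +kernel

end CfsgLib.Trans3.Spider.E
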